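import Mathlib
import Cfsg.Agent.Lib.helper3.SPM.Defs
import Cfsg.Agent.Lib.helper3.SPM.Defs2
import Cfsg.Agent.Lib.helper3.SPM.DefsP

/-!
# Project SPM (helper3), block P, row P06 (`exists_wL`, `exists_wN`): words by choice
-/

set_option autoImplicit false
set_option linter.unusedSectionVars false

namespace Cfsg.Agent.Lib.helper3.SPM

open Cfsg.Agent.Lib.helper3.STC Cfsg.Agent.Lib.helper3.STC.Mat Cfsg.Agent.Lib.helper17.SLP Cfsg.Agent.Lib.helper3.SP4

universe u v w v'

section P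

variable {F : Type u} [Field F] {ι : Type w} [Fintype ι] [DecidableEq ι] {k : ℕ}

/-- P6 -/
theorem exists_wL (ζ : Fˣ) (hgen : Subgroup.closure (Set.range (gM (F := F) ζ)) = ⊤) :
    ∃ wL : Sp4 F → FreeGroup (Fin 6), ∀ m, evL (gM ζ) (wL m) = m := by
  have hs : Function.Surjective (evL (gM (F := F) ζ)) := by
    rw [← MonoidHom.range_eq_top]
    unfold evL
    rw [FreeGroup.range_lift_eq_closure, hgen]
  exact ⟨fun m => (hs m).choose, fun m => (hs m).choose_spec⟩

theorem exists_wN (relsN : Set (FreeGroup (Fin k))) (eN : PresentedGroup relsN ≃* Equiv.Perm ι) :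
    ∃ wN : Equiv.Perm ι → FreeGroup (Fin k), ∀ σ, eN (PresentedGroup.mk relsN (wN σ)) = σ := by
  have hs : ∀ σ : Equiv.Perm ι, ∃ x : FreeGroup (Fin k), PresentedGroup.mk relsN x = eN.symm σ :=
    fun σ => PresentedGroup.mk_surjective relsN (eN.symm σ)
  refine ⟨fun σ => (hs σ).choose, fun σ => ?_⟩
  rw [(hs σ).choose_spec, MulEquiv.apply_symm_apply]

end P

end Cfsg.Agent.Lib.helper3.SPM
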