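import Mathlib
import Cfsg.Agent.Lib.helper3.SPM.Defs
import Cfsg.Agent.Lib.Helper21.STCM.Emb

/-!
# Project SPM (helper3; S2292 + S2296), Block M (helper21), rows M1 + M2: `permSp` and `rhoS` exist and act as expected
-/

set_option autoImplicit false

namespace Cfsg.Agent.Lib.helper3.SPM

open Cfsg.Agent.Lib.helper3.STC Cfsg.Agent.Lib.helper3.STC.Mat Cfsg.Agent.Lib.helper17.SLP

universe u v w

section Mat

variable {F : Type u} [Field F] {ι : Type w} [Fintype ι] [DecidableEq ι]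

theorem spmm_permM_eq (σ : Equiv.Perm ι) : Mat.permM (F := F) σ = permSpM F σ := by
  ext a b
  rw [Mat.permM_apply]
  rfl

theorem spmm_permSp_exists : ∃ φ : Equiv.Perm ι →* ↥(Matrix.symplecticGroup ι F), ∀ σ,
    ((φ σ : ↥(Matrix.symplecticGroup ι F)) : Matrix (ι ⊕ ι) (ι ⊕ ι) F) = permSpM F σ :=
  ⟨Mat.permSp, fun σ => by rw [Mat.permSp_coe, spmm_permM_eq]⟩

/-- M1 -/
theorem permSp_coe (σ : Equiv.Perm ι) :
    ((permSp σ : ↥(Matrix.symplecticGroup ι F)) : Matrix (ι ⊕ ι) (ι ⊕ ι) F) = permSpM F σ := by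
  unfold permSp
  rw [dif_pos spmm_permSp_exists]
  exact (spmm_permSp_exists (F := F) (ι := ι)).choose_spec σ

/-- the hom of the Defs is the matrix-level one -/
theorem spmm_permSp_eq (σ : Equiv.Perm ι) :
    (permSp σ : ↥(Matrix.symplecticGroup ι F)) = Mat.permSp σ := by
  apply Subtype.ext
  rw [permSp_coe, Mat.permSp_coe, spmm_permM_eq]

theorem permSp_conj_tm (σ : Equiv.Perm ι) {a b : ι ⊕ ι} (hab : a ≠ b) (t : F) :
    permSp σ * tm a b t * (permSp σ)⁻¹ = (tm (sgm σ a) (sgm σ b) t : ↥(Matrix.symplecticGroup ι F)) := by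
  rw [spmm_permSp_eq]
  exact Mat.permSp_conj_tm σ hab t

/-- the two base points as an embedding -/
def spmm_oe (p : Pts ι) : Fin 2 ↪ ι where
  toFun := p.o
  inj' := by
    intro a b h
    fin_cases a <;> fin_cases b
    · rfl
    · exact absurd h p.h01
    · exact absurd h.symm p.h01
    · rfl

theorem spmm_Em_oe (p : Pts ι) (a : Fin 2 ⊕ Fin 2) : Em (spmm_oe p) a = pe p a := rfl

theorem spmm_incl_eq (p : Pts ι) : Mat.incl (F := F) (spmm_oe p) = inclM F (pe p) := by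
  ext a b
  rw [Mat.incl_apply]
  rfl

theorem spmm_emb_eq (p : Pts ι) (M : Matrix (Fin 2 ⊕ Fin 2) (Fin 2 ⊕ Fin 2) F) :
    Mat.emb (spmm_oe p) M = embM (pe p) M := by
  unfold Mat.emb embM
  rw [spmm_incl_eq]

theorem spmm_rhoS_exists (p : Pts ι) : ∃ φ : Sp4 F →* ↥(Matrix.symplecticGroup ι F), ∀ A : Sp4 F,
    ((φ A : ↥(Matrix.symplecticGroup ι F)) : Matrix (ι ⊕ ι) (ι ⊕ ι) F) =
      embM (pe p) (A : Matrix (Fin 2 ⊕ Fin 2) (Fin 2 ⊕ Fin 2) F) :=
  ⟨Mat.embSp (spmm_oe p), fun A => by rw [Mat.embSp_coe, spmm_emb_eq]⟩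

/-- M2 -/
theorem rhoS_coe (p : Pts ι) (A : Sp4 F) :
    ((rhoS p A : ↥(Matrix.symplecticGroup ι F)) : Matrix (ι ⊕ ι) (ι ⊕ ι) F) =
      embM (pe p) (A : Matrix (Fin 2 ⊕ Fin 2) (Fin 2 ⊕ Fin 2) F) := by
  unfold rhoS
  rw [dif_pos (spmm_rhoS_exists p)]
  exact (spmm_rhoS_exists (F := F) p).choose_spec A

/-- the hom of the Defs is the matrix-level one -/
theorem spmm_rhoS_eq (p : Pts ι) (A : Sp4 F) :
    (rhoS p A : ↥(Matrix.symplecticGroup ι F)) = Mat.embSp (spmm_oe p) A := by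
  apply Subtype.ext
  rw [rhoS_coe, Mat.embSp_coe, spmm_emb_eq]

theorem rhoS_tm (p : Pts ι) {a b : Fin 2 ⊕ Fin 2} (hab : a ≠ b) (t : F) :
    rhoS p (tm a b t : Sp4 F) = (tm (pe p a) (pe p b) t : ↥(Matrix.symplecticGroup ι F)) := by
  rw [spmm_rhoS_eq, Mat.embSp_tm _ hab]
  rfl

theorem spmm_via_swap (p : Pts ι) :
    (Equiv.swap (0 : Fin 2) 1).viaEmbedding (spmm_oe p) = Equiv.swap p.o0 p.o1 := by
  ext x
  by_cases hx : x ∈ Set.range (spmm_oe p)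
  · obtain ⟨k, rfl⟩ := hx
    rw [Equiv.Perm.viaEmbedding_apply]
    fin_cases k
    · show (spmm_oe p) (Equiv.swap (0 : Fin 2) 1 0) = Equiv.swap p.o0 p.o1 p.o0
      rw [Equiv.swap_apply_left, Equiv.swap_apply_left]; rfl
    · show (spmm_oe p) (Equiv.swap (0 : Fin 2) 1 1) = Equiv.swap p.o0 p.o1 p.o1
      rw [Equiv.swap_apply_right, Equiv.swap_apply_right]; rfl
  · rw [Equiv.Perm.viaEmbedding_apply_of_notMem _ _ _ hx]
    have h0 : x ≠ p.o0 := fun h => hx ⟨0, h.symm⟩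
    have h1 : x ≠ p.o1 := fun h => hx ⟨1, h.symm⟩
    rw [Equiv.swap_apply_of_ne_of_ne h0 h1]

theorem rhoS_swS (p : Pts ι) :
    rhoS p (swS : Sp4 F) = (permSp (Equiv.swap p.o0 p.o1) : ↥(Matrix.symplecticGroup ι F)) := by
  rw [spmm_rhoS_eq, spmm_permSp_eq]
  unfold swS
  rw [spmm_permSp_eq, Mat.embSp_permSp, spmm_via_swap]

/-- the `permSp σ`-conjugate of the block embedding of a root element -/
theorem permSp_conj_rhoS_tm (p : Pts ι) (σ : Equiv.Perm ι) {a b : Fin 2 ⊕ Fin 2} (hab : a ≠ b) (t : F) :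
    permSp σ * rhoS p (tm a b t : Sp4 F) * (permSp σ)⁻¹ =
      (tm (sgm σ (pe p a)) (sgm σ (pe p b)) t : ↥(Matrix.symplecticGroup ι F)) := by
  rw [rhoS_tm p hab]
  apply permSp_conj_tm
  intro h
  apply hab
  have := (Mat.mat_Em_inj (spmm_oe p)).mp h
  exact this

end Mat

end Cfsg.Agent.Lib.helper3.SPM
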