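import Mathlib
import Cfsg.Agent.Lib.helper3.SPM.Defs
import Cfsg.Agent.Lib.Helper21.STCM.Emb
import Cfsg.Agent.Lib.Helper21.STCM.EmbGen
import Cfsg.Agent.Lib.Helper21.SPM.M1
import Cfsg.Agent.Lib.Helper24.STCW14
import Cfsg.Agent.Lib.helper2.STCX1

/-!
# Project SPM (helper3; S2292 + S2296), Block M (helper21), row M3: generation of `Sp₄(F)` by `u_a`, `swS`, `B1`; `B0` and `B1` commute;
`Sp_2m(F)` is generated by the permutation matrices and the block `Sp₄`
-/

set_option autoImplicit false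

namespace Cfsg.Agent.Lib.helper3.SPM

open Cfsg.Agent.Lib.helper3.STC Cfsg.Agent.Lib.helper3.STC.Mat Cfsg.Agent.Lib.helper17.SLP

universe u v w

section Mat

variable {F : Type u} [Field F]

/-- the generators of `B1` -/
theorem spmm_tm_mem_B1 {a b : Fin 2 ⊕ Fin 2} (hab : a ≠ b) (ha : ab a = 1) (hb : ab b = 1) (t : F) :
    (tm a b t : Sp4 F) ∈ B1 F :=
  SysC.x_mem_XQ (matSys (Fin 2) F) hab ⟨ha, hb⟩ t

/-- conjugation by the long Weyl element of the index `1` -/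
theorem spmm_w1_conj {k l : Fin 2 ⊕ Fin 2} (hkl : k ≠ l) (u t : F) (hu : u ≠ 0) :
    (matSys (Fin 2) F).w (Sum.inl 1) (Sum.inr 1) u * (tm k l t : Sp4 F) *
        ((matSys (Fin 2) F).w (Sum.inl 1) (Sum.inr 1) u)⁻¹ =
      tm (Equiv.swap (Sum.inl (1 : Fin 2)) (Sum.inr 1) k) (Equiv.swap (Sum.inl (1 : Fin 2)) (Sum.inr 1) l)
        (dwl (Sum.inl (1 : Fin 2)) u k * (dwl (Sum.inl (1 : Fin 2)) u l)⁻¹ * t) :=
  ((matSys (Fin 2) F).isMon_wl (Sum.inl 1) u hu).2 k l hkl t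

theorem spmm_w1_mem (u : F) : (matSys (Fin 2) F).w (Sum.inl 1) (Sum.inr 1) u ∈ B1 F := by
  unfold SysC.w
  have h1 : (Sum.inl (1 : Fin 2) : Fin 2 ⊕ Fin 2) ≠ Sum.inr 1 := by decide
  exact (B1 F).mul_mem ((B1 F).mul_mem (spmm_tm_mem_B1 h1 rfl rfl u) (spmm_tm_mem_B1 h1.symm rfl rfl _))
    (spmm_tm_mem_B1 h1 rfl rfl u)


/-- `swS` conjugates `tm a b t` by exchanging the two indices -/
theorem spmm_swS_conj {a b : Fin 2 ⊕ Fin 2} (hab : a ≠ b) (t : F) :
    (swS : Sp4 F) * tm a b t * swS⁻¹ =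
      tm (sgm (Equiv.swap (0 : Fin 2) 1) a) (sgm (Equiv.swap (0 : Fin 2) 1) b) t := by
  unfold swS
  exact permSp_conj_tm _ hab t

/-- M3a: `Sp₄(F)` is generated by `u_a`, the permutation matrix and the long-root `SL₂` on the index `1` -/
theorem sp4_gen : Subgroup.closure (({uA F, swS} : Set (Sp4 F)) ∪ (B1 F : Set (Sp4 F))) = ⊤ := by
  set H := Subgroup.closure (({uA F, swS} : Set (Sp4 F)) ∪ (B1 F : Set (Sp4 F))) with hH
  have hu : uA F ∈ H := Subgroup.subset_closure (Or.inl (by simp))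
  have hs : (swS : Sp4 F) ∈ H := Subgroup.subset_closure (Or.inl (by simp))
  have hB : ∀ g ∈ B1 F, g ∈ H := fun g hg => Subgroup.subset_closure (Or.inr hg)
  have hw : ∀ u : F, (matSys (Fin 2) F).w (Sum.inl 1) (Sum.inr 1) u ∈ H := fun u => hB _ (spmm_w1_mem u)
  -- conjugation by `w1 u` and by `swS` preserves `H`
  have cw : ∀ (u : F) (g : Sp4 F), g ∈ H →
      (matSys (Fin 2) F).w (Sum.inl 1) (Sum.inr 1) u * g * ((matSys (Fin 2) F).w (Sum.inl 1) (Sum.inr 1) u)⁻¹ ∈ H :=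
    fun u g hg => H.mul_mem (H.mul_mem (hw u) hg) (H.inv_mem (hw u))
  have cs : ∀ g : Sp4 F, g ∈ H → (swS : Sp4 F) * g * swS⁻¹ ∈ H :=
    fun g hg => H.mul_mem (H.mul_mem hs hg) (H.inv_mem hs)
  have z : ∀ a b : Fin 2 ⊕ Fin 2, (tm a b (0 : F) : Sp4 F) = 1 := fun a b => (matSys (Fin 2) F).x_zero a b
  -- the long root groups
  have l1 : ∀ t : F, (tm (Sum.inl 1) (Sum.inr 1) t : Sp4 F) ∈ H := fun t =>
    hB _ (spmm_tm_mem_B1 (by decide) rfl rfl t)
  have l1' : ∀ t : F, (tm (Sum.inr 1) (Sum.inl 1) t : Sp4 F) ∈ H := fun t =>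
    hB _ (spmm_tm_mem_B1 (by decide) rfl rfl t)
  have l0 : ∀ t : F, (tm (Sum.inl 0) (Sum.inr 0) t : Sp4 F) ∈ H := by
    intro t
    have := cs _ (l1 t)
    rw [spmm_swS_conj (by decide)] at this
    exact this
  have l0' : ∀ t : F, (tm (Sum.inr 0) (Sum.inl 0) t : Sp4 F) ∈ H := by
    intro t
    have := cs _ (l1' t)
    rw [spmm_swS_conj (by decide)] at this
    exact this
  -- `x_{e₀ + e₁}`
  have s1 : ∀ t : F, (tm (Sum.inl 0) (Sum.inr 1) t : Sp4 F) ∈ H := by
    intro t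
    by_cases ht : t = 0
    · rw [ht, z]; exact H.one_mem
    · have h := cw (-t) _ hu
      unfold uA at h
      rw [spmm_w1_conj (by decide) (-t) 1 (neg_ne_zero.mpr ht)] at h
      have e1 : Equiv.swap (Sum.inl (1 : Fin 2)) (Sum.inr (1 : Fin 2)) (Sum.inl 0) = Sum.inl 0 :=
        Equiv.swap_apply_of_ne_of_ne (by decide) (by decide)
      have e2 : Equiv.swap (Sum.inl (1 : Fin 2)) (Sum.inr (1 : Fin 2)) (Sum.inl 1) = Sum.inr 1 :=
        Equiv.swap_apply_left _ _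
      have e3 : dwl (Sum.inl (1 : Fin 2)) (-t) (Sum.inl 0) * (dwl (Sum.inl (1 : Fin 2)) (-t) (Sum.inl 1))⁻¹ * 1 = t := by
        simp [dwl, ng]
      rw [e1, e2, e3] at h
      exact h
  -- `x_{e₀ - e₁}`
  have s2 : ∀ t : F, (tm (Sum.inl 0) (Sum.inl 1) t : Sp4 F) ∈ H := by
    intro t
    have h := cw 1 _ (s1 t)
    rw [spmm_w1_conj (by decide) 1 t one_ne_zero] at h
    have e1 : Equiv.swap (Sum.inl (1 : Fin 2)) (Sum.inr (1 : Fin 2)) (Sum.inl 0) = Sum.inl 0 :=
      Equiv.swap_apply_of_ne_of_ne (by decide) (by decide)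
    have e2 : Equiv.swap (Sum.inl (1 : Fin 2)) (Sum.inr (1 : Fin 2)) (Sum.inr 1) = Sum.inl 1 :=
      Equiv.swap_apply_right _ _
    have e3 : dwl (Sum.inl (1 : Fin 2)) (1 : F) (Sum.inl 0) * (dwl (Sum.inl (1 : Fin 2)) (1 : F) (Sum.inr 1))⁻¹ * t = t := by
      simp [dwl, ng]
    rw [e1, e2, e3] at h
    exact h
  -- `x_{e₁ - e₀}`, `x_{e₁ + e₀}`
  have s3 : ∀ t : F, (tm (Sum.inl 1) (Sum.inl 0) t : Sp4 F) ∈ H := by
    intro t
    have := cs _ (s2 t)
    rw [spmm_swS_conj (by decide)] at this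
    exact this
  have s4 : ∀ t : F, (tm (Sum.inl 1) (Sum.inr 0) t : Sp4 F) ∈ H := by
    intro t
    have := cs _ (s1 t)
    rw [spmm_swS_conj (by decide)] at this
    exact this
  -- `x_{-e₁ - e₀}`
  have s5 : ∀ t : F, (tm (Sum.inr 1) (Sum.inl 0) t : Sp4 F) ∈ H := by
    intro t
    have h := cw 1 _ (s3 (-t))
    rw [spmm_w1_conj (by decide) 1 (-t) one_ne_zero] at h
    have e1 : Equiv.swap (Sum.inl (1 : Fin 2)) (Sum.inr (1 : Fin 2)) (Sum.inl 0) = Sum.inl 0 :=
      Equiv.swap_apply_of_ne_of_ne (by decide) (by decide)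
    have e2 : Equiv.swap (Sum.inl (1 : Fin 2)) (Sum.inr (1 : Fin 2)) (Sum.inl 1) = Sum.inr 1 :=
      Equiv.swap_apply_left _ _
    have e3 : dwl (Sum.inl (1 : Fin 2)) (1 : F) (Sum.inl 1) * (dwl (Sum.inl (1 : Fin 2)) (1 : F) (Sum.inl 0))⁻¹ * (-t) = t := by
      simp [dwl, ng]
    rw [e1, e2, e3] at h
    exact h
  have s6 : ∀ t : F, (tm (Sum.inr 0) (Sum.inl 1) t : Sp4 F) ∈ H := by
    intro t
    have := cs _ (s5 t)
    rw [spmm_swS_conj (by decide)] at this
    exact this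
  -- the remaining ones by `sym`
  have sy : ∀ (a b : Fin 2 ⊕ Fin 2), a ≠ b → (∀ t : F, (tm (ng b) (ng a) t : Sp4 F) ∈ H) →
      ∀ t : F, (tm a b t : Sp4 F) ∈ H := by
    intro a b hab h t
    have := (matSys (Fin 2) F).sym a b hab t
    change (tm a b t : Sp4 F) = _ at this
    rw [this]
    exact h _
  rw [eq_top_iff, ← matSys_gen (F := F) 2]
  unfold SysC.XQ
  rw [Subgroup.closure_le]
  rintro g ⟨a, b, t, hab, -, rfl⟩
  change (tm a b t : Sp4 F) ∈ H
  rcases a with a | a <;> rcases b with b | b <;> fin_cases a <;> fin_cases b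
  · exact absurd rfl hab
  · exact s2 t
  · exact s3 t
  · exact absurd rfl hab
  · exact l0 t
  · exact s1 t
  · exact s4 t
  · exact l1 t
  · exact l0' t
  · exact s6 t
  · exact s5 t
  · exact l1' t
  · exact absurd rfl hab
  · exact sy _ _ hab (fun t => s3 t) t
  · exact sy _ _ hab (fun t => s2 t) t
  · exact absurd rfl hab


/-- a signed index of `Fin 2` of absolute value `1` -/
theorem spmm_ab_one {a : Fin 2 ⊕ Fin 2} (ha : ab a = 1) : a = Sum.inl 1 ∨ a = Sum.inr 1 := by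
  rcases a with a | a
  · left; simp only [ab] at ha; rw [ha]
  · right; simp only [ab] at ha; rw [ha]

/-- M3b: the long-root `SL₂` on the index `0` (`= swS B1 swS⁻¹`) commutes with the one on the index `1` -/
theorem B0_B1_commute (g g' : Sp4 F) (hg : g ∈ B1 F) (hg' : g' ∈ B1 F) :
    Commute (swS * g * swS⁻¹) g' := by
  -- generators against generators
  have key : ∀ (a b c d : Fin 2 ⊕ Fin 2), a ≠ b → ab a = 1 → ab b = 1 → c ≠ d → ab c = 1 → ab d = 1 →
      ∀ t u : F, Commute ((swS : Sp4 F) * tm a b t * swS⁻¹) (tm c d u) := by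
    intro a b c d hab ha hb hcd hc hd t u
    rw [spmm_swS_conj hab]
    have hab' : sgm (Equiv.swap (0 : Fin 2) 1) a ≠ sgm (Equiv.swap (0 : Fin 2) 1) b :=
      fun h => hab ((sgm (Equiv.swap (0 : Fin 2) 1)).injective h)
    rcases spmm_ab_one ha with rfl | rfl <;> rcases spmm_ab_one hb with rfl | rfl <;>
      rcases spmm_ab_one hc with rfl | rfl <;> rcases spmm_ab_one hd with rfl | rfl <;>
      first
        | exact absurd rfl hab
        | exact absurd rfl hcd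
        | exact tm_comm hab' hcd (by decide) (by decide) (by decide) (by decide) t u
  -- extend in `g'`
  have key2 : ∀ (a b : Fin 2 ⊕ Fin 2), a ≠ b → ab a = 1 → ab b = 1 → ∀ t : F, ∀ g' ∈ B1 F,
      Commute ((swS : Sp4 F) * tm a b t * swS⁻¹) g' := by
    intro a b hab ha hb t g' hg'
    unfold B1 SysC.XQ at hg'
    induction hg' using Subgroup.closure_induction with
    | mem x hx =>
      obtain ⟨c, d, u, hcd, ⟨hc, hd⟩, rfl⟩ := hx
      exact key a b c d hab ha hb hcd hc hd t u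
    | one => exact Commute.one_right _
    | mul x y _ _ hx hy => exact hx.mul_right hy
    | inv x _ hx => exact hx.inv_right
  -- extend in `g`
  unfold B1 SysC.XQ at hg
  induction hg using Subgroup.closure_induction with
  | mem x hx =>
    obtain ⟨a, b, t, hab, ⟨ha, hb⟩, rfl⟩ := hx
    exact key2 a b hab ha hb t g' hg'
  | one =>
    rw [mul_one, mul_inv_cancel]
    exact Commute.one_left _
  | mul x y _ _ hx hy =>
    have : (swS : Sp4 F) * (x * y) * swS⁻¹ = (swS * x * swS⁻¹) * (swS * y * swS⁻¹) := by group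
    rw [this]
    exact hx.mul_left hy
  | inv x _ hx =>
    have : (swS : Sp4 F) * x⁻¹ * swS⁻¹ = (swS * x * swS⁻¹)⁻¹ := by group
    rw [this]
    exact hx.inv_left

/-- M3c: `Sp_2m(F)` is generated by the permutation matrices and the block `Sp₄` -/
theorem gen_M (m : ℕ) (p : Pts (Fin m)) :
    Subgroup.closure (Set.range (permSp (F := F) (ι := Fin m)) ∪ Set.range (rhoS (F := F) p)) = ⊤ := by
  have h1 : Set.range (permSp (F := F) (ι := Fin m)) = Set.range (Mat.permSp (F := F) (l := Fin m)) := by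
    congr 1
    funext σ
    exact spmm_permSp_eq σ
  have h2 : Set.range (rhoS (F := F) p) = Set.range (Mat.embSp (F := F) (spmm_oe p)) := by
    congr 1
    funext A
    exact spmm_rhoS_eq p A
  rw [h1, h2]
  exact Mat.closure_perm_emb_fin m (spmm_oe p) (i₀ := 0) (j₀ := 1) (by decide)

end Mat

end Cfsg.Agent.Lib.helper3.SPM
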