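import Mathlib
import Cfsg.Agent.Lib.helper3.SPM.Defs
import Cfsg.Agent.Lib.Helper21.STCM.Emb
import Cfsg.Agent.Lib.Helper21.SPM.M1
import Cfsg.Agent.Lib.Helper21.SPM.M3

/-!
# Project SPM (helper3; S2292 + S2296), Block M (helper21), row M4: the matrix model satisfies the gluing hypotheses, and its root
elements `xr` are the elementary symplectic matrices
-/

set_option autoImplicit false

namespace Cfsg.Agent.Lib.helper3.SPM

open Cfsg.Agent.Lib.helper3.STC Cfsg.Agent.Lib.helper3.STC.Mat Cfsg.Agent.Lib.helper17.SLP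

universe u v w

section Glue

variable {F : Type u} [Field F] {ι : Type w} [Fintype ι] [DecidableEq ι]

omit [Fintype ι] [DecidableEq ι] in
theorem spmm_lamC_apply {G : Type v} [Group G] (ν : Equiv.Perm ι →* G) (lam : Sp4 F →* G) (σ : Equiv.Perm ι) (g : Sp4 F) :
    lamC ν lam σ g = ν σ * lam g * (ν σ)⁻¹ := rfl

/-- the conjugated block embedding of a root element -/
theorem spmm_lamC_tm (p : Pts ι) (σ : Equiv.Perm ι) {a b : Fin 2 ⊕ Fin 2} (hab : a ≠ b) (t : F) :
    lamC (permSp (F := F) (ι := ι)) (rhoS p) σ (tm a b t) =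
      (tm (sgm σ (pe p a)) (sgm σ (pe p b)) t : ↥(Matrix.symplecticGroup ι F)) := by
  rw [spmm_lamC_apply]
  exact permSp_conj_rhoS_tm p σ hab t

omit [Fintype ι] in
theorem spmm_sig2_o0 (p : Pts ι) {i j : ι} (hij : i ≠ j) : sig2 p i j p.o0 = i := by
  unfold sig2
  rw [Equiv.Perm.mul_apply, Equiv.swap_apply_left]
  apply Equiv.swap_apply_of_ne_of_ne
  · intro h
    have : Equiv.swap p.o0 i p.o0 = Equiv.swap p.o0 i p.o1 := by rw [Equiv.swap_apply_left]; exact h
    exact p.h01 ((Equiv.swap p.o0 i).injective this)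
  · exact hij

omit [Fintype ι] in
theorem spmm_sig2_o1 (p : Pts ι) (i j : ι) : sig2 p i j p.o1 = j := by
  unfold sig2
  rw [Equiv.Perm.mul_apply, Equiv.swap_apply_left]

omit [Fintype ι] [DecidableEq ι] in
theorem spmm_pe_sn0 (p : Pts ι) (a : ι ⊕ ι) : pe p (sn a 0) = Sum.map (fun _ => p.o0) (fun _ => p.o0) a := by
  rcases a with a | a <;> rfl

omit [Fintype ι] [DecidableEq ι] in
theorem spmm_pe_sn1 (p : Pts ι) (a : ι ⊕ ι) : pe p (sn a 1) = Sum.map (fun _ => p.o1) (fun _ => p.o1) a := by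
  rcases a with a | a <;> rfl

/-- M4a -/
theorem xr_M (p : Pts ι) {a b : ι ⊕ ι} (hab : a ≠ b) (t : F) :
    xr p (permSp (F := F) (ι := ι)) (rhoS p) a b t = tm a b t := by
  unfold xr
  rw [if_neg hab]
  by_cases h : ab a = ab b
  · rw [if_pos h]
    have hne : sn a (1 : Fin 2) ≠ sn b 1 := by
      rcases a with a | a <;> rcases b with b | b <;> simp only [ab] at h <;> simp [sn]
      · exact hab (by rw [h])
      · exact hab (by rw [h])
    rw [spmm_lamC_tm p _ hne]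
    rcases a with a | a <;> rcases b with b | b <;> simp only [ab] at h <;> subst h <;>
      simp [sn, pe, Pts.o, sgm, ab]
  · rw [if_neg h]
    have hne : sn a (0 : Fin 2) ≠ sn b 1 := by
      rcases a with a | a <;> rcases b with b | b <;> simp [sn]
    rw [spmm_lamC_tm p _ hne]
    rcases a with a | a <;> rcases b with b | b <;> simp only [ab] at h <;>
      simp [sn, pe, Pts.o, sgm, ab, spmm_sig2_o0 p h, spmm_sig2_o1]

omit [Fintype ι] [DecidableEq ι] in
theorem spmm_pe_inl0 (p : Pts ι) : pe p (Sum.inl 0) = Sum.inl p.o0 := rfl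

omit [Fintype ι] [DecidableEq ι] in
theorem spmm_pe_inl1 (p : Pts ι) : pe p (Sum.inl 1) = Sum.inl p.o1 := rfl

omit [Fintype ι] [DecidableEq ι] in
theorem spmm_pe_inr1 (p : Pts ι) : pe p (Sum.inr 1) = Sum.inr p.o1 := rfl

omit [Fintype ι] [DecidableEq ι] in
theorem spmm_sgm_inl (σ : Equiv.Perm ι) (i : ι) : sgm σ (Sum.inl i) = Sum.inl (σ i) := rfl

omit [Fintype ι] [DecidableEq ι] in
theorem spmm_sgm_inr (σ : Equiv.Perm ι) (i : ι) : sgm σ (Sum.inr i) = Sum.inr (σ i) := rfl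

theorem spmm_rhoS_uA (p : Pts ι) :
    rhoS p (uA F) = (tm (Sum.inl p.o0) (Sum.inl p.o1) 1 : ↥(Matrix.symplecticGroup ι F)) := by
  unfold uA
  rw [rhoS_tm p (by decide)]
  rfl

theorem spmm_lamC_uA (p : Pts ι) (σ : Equiv.Perm ι) :
    lamC (permSp (F := F) (ι := ι)) (rhoS p) σ (uA F) =
      (tm (Sum.inl (σ p.o0)) (Sum.inl (σ p.o1)) 1 : ↥(Matrix.symplecticGroup ι F)) := by
  unfold uA
  rw [spmm_lamC_tm p σ (by decide)]
  rfl

/-- the conjugated block embedding of a generator of `B1` -/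
theorem spmm_lamC_B1gen (p : Pts ι) (σ : Equiv.Perm ι) {a b : Fin 2 ⊕ Fin 2} (hab : a ≠ b) (ha : ab a = 1)
    (hb : ab b = 1) (t : F) :
    ∃ c d : ι ⊕ ι, c ≠ d ∧ ab c = σ p.o1 ∧ ab d = σ p.o1 ∧
      lamC (permSp (F := F) (ι := ι)) (rhoS p) σ (tm a b t) = (tm c d t : ↥(Matrix.symplecticGroup ι F)) := by
  refine ⟨sgm σ (pe p a), sgm σ (pe p b), ?_, ?_, ?_, spmm_lamC_tm p σ hab t⟩
  · rcases spmm_ab_one ha with rfl | rfl <;> rcases spmm_ab_one hb with rfl | rfl <;>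
      first
        | exact absurd rfl hab
        | (simp only [spmm_pe_inl1, spmm_pe_inr1, spmm_sgm_inl, spmm_sgm_inr]; simp)
  · rcases spmm_ab_one ha with rfl | rfl <;> rfl
  · rcases spmm_ab_one hb with rfl | rfl <;> rfl

omit [Fintype ι] [DecidableEq ι] in
theorem spmm_ne_of_ab_ne {a b : ι ⊕ ι} (h : ab a ≠ ab b) : a ≠ b := fun e => h (by rw [e])

omit [Fintype ι] [DecidableEq ι] in
theorem spmm_ne_ng_of_ab_ne {a b : ι ⊕ ι} (h : ab a ≠ ab b) : a ≠ ng b := by
  intro e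
  apply h
  rw [e]
  rcases b with b | b <;> rfl

/-- M4b: the matrix model satisfies the gluing hypotheses -/
theorem glue_M (p : Pts ι) : Glue p (permSp (F := F) (ι := ι)) (rhoS p) where
  sw := (rhoS_swS p).symm
  stab1 := by
    intro σ hσ g hg
    have h : Set.EqOn (lamC (permSp (F := F) (ι := ι)) (rhoS p) σ) (rhoS p)
        {g | ∃ a b t, a ≠ b ∧ (ab a = 1 ∧ ab b = 1) ∧ g = (matSys (Fin 2) F).x a b t} := by
      rintro _ ⟨a, b, t, hab, ⟨ha, hb⟩, rfl⟩
      show lamC (permSp (F := F) (ι := ι)) (rhoS p) σ (tm a b t) = rhoS p (tm a b t)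
      rw [spmm_lamC_tm p σ hab, rhoS_tm p hab]
      rcases spmm_ab_one ha with rfl | rfl <;> rcases spmm_ab_one hb with rfl | rfl <;>
        simp only [spmm_pe_inl1, spmm_pe_inr1, spmm_sgm_inl, spmm_sgm_inr, hσ]
    exact MonoidHom.eqOn_closure h hg
  stab01 := by
    intro σ h0 h1
    have := spmm_lamC_uA (F := F) p σ
    rw [spmm_lamC_apply, h0, h1] at this
    rw [this, spmm_rhoS_uA]
  d3 := by
    intro g hg
    have hle : B1 F ≤ (Subgroup.centralizer {rhoS p (uA F)}).comap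
        (lamC (permSp (F := F) (ι := ι)) (rhoS p) (Equiv.swap p.o1 p.o2)) := by
      unfold B1 SysC.XQ
      rw [Subgroup.closure_le]
      rintro _ ⟨a, b, t, hab, ⟨ha, hb⟩, rfl⟩
      show lamC (permSp (F := F) (ι := ι)) (rhoS p) (Equiv.swap p.o1 p.o2) (tm a b t) ∈
        Subgroup.centralizer {rhoS p (uA F)}
      obtain ⟨c, d, hcd, hc, hd, e⟩ := spmm_lamC_B1gen (F := F) p (Equiv.swap p.o1 p.o2) hab ha hb t
      rw [Equiv.swap_apply_left] at hc hd
      rw [e, Subgroup.mem_centralizer_iff]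
      intro h hh
      rw [Set.mem_singleton_iff] at hh
      subst hh
      rw [spmm_rhoS_uA]
      have h1c : ab (Sum.inl p.o1 : ι ⊕ ι) ≠ ab c := by rw [hc]; exact p.h12
      have h0d : ab (Sum.inl p.o0 : ι ⊕ ι) ≠ ab d := by rw [hd]; exact p.h02
      have h1d : ab (Sum.inl p.o1 : ι ⊕ ι) ≠ ab d := by rw [hd]; exact p.h12
      have h0c : ab (Sum.inl p.o0 : ι ⊕ ι) ≠ ab c := by rw [hc]; exact p.h02
      exact tm_comm (fun e => p.h01 (Sum.inl_injective e)) hcd (spmm_ne_of_ab_ne h1c) (spmm_ne_of_ab_ne h0d)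
        (spmm_ne_ng_of_ab_ne h1d) (spmm_ne_ng_of_ab_ne h0c) 1 t
    have := hle hg
    rw [Subgroup.mem_comap, Subgroup.mem_centralizer_iff] at this
    exact this _ rfl
  d4 := by
    intro x hx
    obtain ⟨hx0, hx1, hx2⟩ := p.h3 x hx
    rw [spmm_lamC_uA, spmm_rhoS_uA]
    have e0 : (Equiv.swap p.o0 p.o2 * Equiv.swap p.o1 x) p.o0 = p.o2 := by
      rw [Equiv.Perm.mul_apply, Equiv.swap_apply_of_ne_of_ne p.h01 (Ne.symm hx0), Equiv.swap_apply_left]
    have e1 : (Equiv.swap p.o0 p.o2 * Equiv.swap p.o1 x) p.o1 = x := by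
      rw [Equiv.Perm.mul_apply, Equiv.swap_apply_left, Equiv.swap_apply_of_ne_of_ne hx0 hx2]
    rw [e0, e1]
    exact tm_comm (fun e => p.h01 (Sum.inl_injective e)) (fun e => hx2 (Sum.inl_injective e).symm)
      (fun e => p.h12 (Sum.inl_injective e)) (fun e => hx0 (Sum.inl_injective e).symm)
      (by simp [ng]) (by simp [ng]) 1 1
  c1 := by
    rw [spmm_lamC_uA, spmm_lamC_uA, spmm_rhoS_uA]
    have e0 : (Equiv.swap p.o0 p.o1 * Equiv.swap p.o1 p.o2) p.o0 = p.o1 := by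
      rw [Equiv.Perm.mul_apply, Equiv.swap_apply_of_ne_of_ne p.h01 p.h02, Equiv.swap_apply_left]
    have e1 : (Equiv.swap p.o0 p.o1 * Equiv.swap p.o1 p.o2) p.o1 = p.o2 := by
      rw [Equiv.Perm.mul_apply, Equiv.swap_apply_left, Equiv.swap_apply_of_ne_of_ne (Ne.symm p.h02) (Ne.symm p.h12)]
    rw [e0, e1, Equiv.swap_apply_of_ne_of_ne p.h01 p.h02, Equiv.swap_apply_left]
    have := tm_comm3 (F := F) (a := (Sum.inl p.o0 : ι ⊕ ι)) (b := Sum.inl p.o1) (c := Sum.inl p.o2)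
      (fun e => p.h01 (Sum.inl_injective e)) (by simp [ng]) (fun e => p.h12 (Sum.inl_injective e)) (by simp [ng])
      (fun e => p.h02 (Sum.inl_injective e)) (by simp [ng]) 1 1
    rw [mul_one] at this
    exact this
  c2 := by
    rw [spmm_lamC_uA, spmm_rhoS_uA, Equiv.swap_apply_of_ne_of_ne p.h01 p.h02, Equiv.swap_apply_left]
    exact tm_comm (fun e => p.h01 (Sum.inl_injective e)) (fun e => p.h02 (Sum.inl_injective e))
      (fun e => p.h01 (Sum.inl_injective e).symm) (fun e => p.h02 (Sum.inl_injective e))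
      (by simp [ng]) (by simp [ng]) 1 1

end Glue

end Cfsg.Agent.Lib.helper3.SPM
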