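import Mathlib
import Cfsg.Agent.Lib.helper3.SPM.Defs
import Cfsg.Agent.Lib.helper3.SPM.Defs2
import Cfsg.Agent.Lib.Helper21.STCM.GenTop
import Cfsg.Agent.Lib.Helper21.SPM.M1
import Cfsg.Agent.Lib.Helper21.SPM.M3
import Cfsg.Agent.Lib.Helper21.SPM.M4

/-!
# Project SPM (helper3), Block M (helper21): the structure `SpFacts F` of `Defs2` holds; the matrix-side hypotheses of `iso_of_glue` / `spm_pres_core` at `Fin m`
-/

set_option autoImplicit false

namespace Cfsg.Agent.Lib.helper3.SPM

open Cfsg.Agent.Lib.helper3.STC Cfsg.Agent.Lib.helper3.STC.Mat Cfsg.Agent.Lib.helper17.SLP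

universe u w

/-- the facts on `Sp₄(F)` used by the abstract side -/
theorem spFacts_M (F : Type u) [Field F] : SpFacts F where
  gen4 := sp4_gen
  sw_tm := fun _ _ t h => spmm_swS_conj h t
  comm01 := fun g hg g' hg' => B0_B1_commute g g' hg hg'
  esp := matSys_gen 2

/-- the hypothesis `hxM` of `iso_of_glue` / `spm_pres_core` -/
theorem spmm_hxM {F : Type u} [Field F] {ι : Type w} [Fintype ι] [DecidableEq ι] (p : Pts ι) :
    ∀ (a b : ι ⊕ ι) (t : F), a ≠ b → xr p (permSp (F := F)) (rhoS p) a b t = tm a b t :=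
  fun _ _ t h => xr_M p h t

end Cfsg.Agent.Lib.helper3.SPM
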