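import Mathlib
import Cfsg.Agent.Lib.helper3.SPM.Defs
import Cfsg.Agent.Lib.helper3.SPM.Defs2
import Cfsg.Agent.Lib.Helper21.STCM.GenTop
import Cfsg.Agent.Lib.Helper29.SPMA3
import Cfsg.Agent.Lib.Helper29.SPMA4
import Cfsg.Agent.Lib.Helper24.STCW14
import Cfsg.Agent.Lib.Helper29.STCH3

/-!
# Project SPM (helper3), rows I6 (`wr_pair`, `hr_pair`), I7 (`pmon_pair`), T4 (`hl_pair`, `wl_pair`): cores, with `xr_pair` (E7) as a hypothesis
-/

set_option autoImplicit false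

namespace Cfsg.Agent.Lib.helper3.SPM

open Cfsg.Agent.Lib.helper3.STC Cfsg.Agent.Lib.helper3.STC.Mat Cfsg.Agent.Lib.helper17.SLP

universe u v w

section main
variable {F : Type u} [Field F] {ι : Type w} [Fintype ι] [DecidableEq ι] {G : Type v} [Group G]
  (p : Pts ι) (ν : Equiv.Perm ι →* G) (lam : Sp4 F →* G)

/-- the statement of E7 `xr_pair` for the pair `(i, j)` -/
def XrPair (i j : ι) : Prop :=
  ∀ (a' b' : Fin 2 ⊕ Fin 2), a' ≠ b' → ∀ t : F,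
    lamP p ν lam i j (tm a' b' t) = xr p ν lam (pe2 i j a') (pe2 i j b') t

variable {p ν lam}

omit [Fintype ι] in
theorem spmi6_wr_core {i j : ι} (hx : XrPair p ν lam i j) {a' b' : Fin 2 ⊕ Fin 2} (hab' : a' ≠ b') (u : F) :
    lamP p ν lam i j ((matSys (Fin 2) F).w a' b' u) = wr p ν lam (pe2 i j a') (pe2 i j b') u := by
  unfold SysC.w wr
  show lamP p ν lam i j (tm a' b' u * tm b' a' (-u⁻¹) * tm a' b' u) = _
  rw [map_mul, map_mul, hx a' b' hab', hx b' a' hab'.symm]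

omit [Fintype ι] in
theorem spmi6_hr_core {i j : ι} (hx : XrPair p ν lam i j) {a' b' : Fin 2 ⊕ Fin 2} (hab' : a' ≠ b') (u : F) :
    lamP p ν lam i j ((matSys (Fin 2) F).h a' b' u) = hr p ν lam (pe2 i j a') (pe2 i j b') u := by
  unfold SysC.h hr
  rw [map_mul, spmi6_wr_core hx hab', spmi6_wr_core hx hab']

omit [Fintype ι] in
theorem spmi7_core {i j : ι} (hx : XrPair p ν lam i j) {g : Sp4 F} {π' : Equiv.Perm (Fin 2 ⊕ Fin 2)}
    {d' : Fin 2 ⊕ Fin 2 → F} (hg : (matSys (Fin 2) F).IsMon g π' d') {a' b' : Fin 2 ⊕ Fin 2} (hab' : a' ≠ b') (t : F) :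
    lamP p ν lam i j g * xr p ν lam (pe2 i j a') (pe2 i j b') t * (lamP p ν lam i j g)⁻¹ =
      xr p ν lam (pe2 i j (π' a')) (pe2 i j (π' b')) (d' a' * (d' b')⁻¹ * t) := by
  have h2 := hg.2 a' b' hab' t
  have hπ : π' a' ≠ π' b' := fun h => hab' (π'.injective h)
  rw [← hx a' b' hab', ← hx _ _ hπ, ← map_inv, ← map_mul, ← map_mul]
  congr 1

omit [Fintype ι] [DecidableEq ι] in
theorem spmt4_pe2_inl0 (k j : ι) : pe2 k j (Sum.inl 0) = Sum.inl k := rfl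

omit [Fintype ι] [DecidableEq ι] in
theorem spmt4_pe2_inr0 (k j : ι) : pe2 k j (Sum.inr 0) = Sum.inr k := rfl

omit [Fintype ι] in
theorem spmt4_dhl {k j : ι} (hkj : k ≠ j) (u : F) (a' : Fin 2 ⊕ Fin 2) :
    dhl (Sum.inl k) u (pe2 k j a') = dhl (Sum.inl (0 : Fin 2)) u a' := by
  have hinj := pe2_injective hkj
  unfold dhl
  have e1 : (pe2 k j a' = Sum.inl k) ↔ (a' = Sum.inl 0) := by
    rw [← spmt4_pe2_inl0 k j]; exact hinj.eq_iff
  have e2 : (pe2 k j a' = ng (Sum.inl k)) ↔ (a' = ng (Sum.inl 0)) := by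
    show (pe2 k j a' = Sum.inr k) ↔ (a' = Sum.inr 0)
    rw [← spmt4_pe2_inr0 k j]; exact hinj.eq_iff
  simp only [e1, e2]

omit [Fintype ι] in
theorem spmt4_dwl {k j : ι} (hkj : k ≠ j) (u : F) (a' : Fin 2 ⊕ Fin 2) :
    dwl (Sum.inl k) u (pe2 k j a') = dwl (Sum.inl (0 : Fin 2)) u a' := by
  have hinj := pe2_injective hkj
  unfold dwl
  have e1 : (pe2 k j a' = Sum.inl k) ↔ (a' = Sum.inl 0) := by
    rw [← spmt4_pe2_inl0 k j]; exact hinj.eq_iff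
  have e2 : (pe2 k j a' = ng (Sum.inl k)) ↔ (a' = ng (Sum.inl 0)) := by
    show (pe2 k j a' = Sum.inr k) ↔ (a' = Sum.inr 0)
    rw [← spmt4_pe2_inr0 k j]; exact hinj.eq_iff
  simp only [e1, e2]

omit [Fintype ι] in
theorem spmt4_swap {k j : ι} (hkj : k ≠ j) (a' : Fin 2 ⊕ Fin 2) :
    pe2 k j (Equiv.swap (Sum.inl 0) (Sum.inr 0) a') = Equiv.swap (Sum.inl k) (Sum.inr k) (pe2 k j a') := by
  rw [← spmt4_pe2_inl0 k j, ← spmt4_pe2_inr0 k j]
  exact ((pe2_injective hkj).swap_apply _ _ _).symm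

omit [Fintype ι] in
theorem spmt4_hl_core [Finite F] {k j : ι} (hkj : k ≠ j) (hx : XrPair p ν lam k j) {u : F} (hu : u ≠ 0) {a b : ι ⊕ ι} (hab : a ≠ b)
    (ha : ab a = k ∨ ab a = j) (hb : ab b = k ∨ ab b = j) (t : F) :
    hr p ν lam (Sum.inl k) (Sum.inr k) u * xr p ν lam a b t * (hr p ν lam (Sum.inl k) (Sum.inr k) u)⁻¹ =
      xr p ν lam a b (dhl (Sum.inl k) u a * (dhl (Sum.inl k) u b)⁻¹ * t) := by
  obtain ⟨a', rfl⟩ := exists_pe2 k j ha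
  obtain ⟨b', rfl⟩ := exists_pe2 k j hb
  have hab' : a' ≠ b' := fun h => hab (by rw [h])
  have h01 : (Sum.inl 0 : Fin 2 ⊕ Fin 2) ≠ Sum.inr 0 := by decide
  have hm : (matSys (Fin 2) F).IsMon ((matSys (Fin 2) F).h (Sum.inl 0) (Sum.inr 0) u) 1 (dhl (Sum.inl 0) u) :=
    (matSys (Fin 2) F).isMon_hl (Sum.inl 0) u hu (fun v hv => (matSys (Fin 2) F).isMon_wl (Sum.inl 0) v hv)
  have := spmi7_core hx hm hab' t
  rw [spmi6_hr_core hx h01, spmt4_pe2_inl0, spmt4_pe2_inr0] at this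
  rw [this, spmt4_dhl hkj, spmt4_dhl hkj]
  rfl

omit [Fintype ι] in
theorem spmt4_wl_core {k j : ι} (hkj : k ≠ j) (hx : XrPair p ν lam k j) {u : F} (hu : u ≠ 0) {a b : ι ⊕ ι} (hab : a ≠ b)
    (ha : ab a = k ∨ ab a = j) (hb : ab b = k ∨ ab b = j) (t : F) :
    wr p ν lam (Sum.inl k) (Sum.inr k) u * xr p ν lam a b t * (wr p ν lam (Sum.inl k) (Sum.inr k) u)⁻¹ =
      xr p ν lam (Equiv.swap (Sum.inl k) (Sum.inr k) a) (Equiv.swap (Sum.inl k) (Sum.inr k) b)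
        (dwl (Sum.inl k) u a * (dwl (Sum.inl k) u b)⁻¹ * t) := by
  obtain ⟨a', rfl⟩ := exists_pe2 k j ha
  obtain ⟨b', rfl⟩ := exists_pe2 k j hb
  have hab' : a' ≠ b' := fun h => hab (by rw [h])
  have h01 : (Sum.inl 0 : Fin 2 ⊕ Fin 2) ≠ Sum.inr 0 := by decide
  have hm : (matSys (Fin 2) F).IsMon ((matSys (Fin 2) F).w (Sum.inl 0) (Sum.inr 0) u)
      (Equiv.swap (Sum.inl 0) (Sum.inr 0)) (dwl (Sum.inl 0) u) :=
    (matSys (Fin 2) F).isMon_wl (Sum.inl 0) u hu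
  have := spmi7_core hx hm hab' t
  rw [spmi6_wr_core hx h01, spmt4_pe2_inl0, spmt4_pe2_inr0] at this
  rw [this, spmt4_dwl hkj, spmt4_dwl hkj, spmt4_swap hkj, spmt4_swap hkj]

end main

end Cfsg.Agent.Lib.helper3.SPM
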