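import Mathlib
import Cfsg.Agent.Lib.helper3.SPM.Defs
import Cfsg.Agent.Lib.helper3.SPM.Defs2
import Cfsg.Agent.Lib.Helper21.STCM.GenTop
import Cfsg.Agent.Lib.Helper21.SPM.I6core
import Cfsg.Agent.Lib.Helper9.SPME7

/-!
# Project SPM (helper3), rows I6 (`wr_pair`, `hr_pair`), I7 (`pmon_pair`), T4 (`hl_pair`, `wl_pair`): the verbatim statements
-/

set_option autoImplicit false
set_option linter.unusedSectionVars false
set_option linter.unusedVariables false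

namespace Cfsg.Agent.Lib.helper3.SPM

open Cfsg.Agent.Lib.helper3.STC Cfsg.Agent.Lib.helper3.STC.Mat Cfsg.Agent.Lib.helper17.SLP

universe u v w v'

section main
variable {F : Type u} [Field F] {ι : Type w} [Fintype ι] [DecidableEq ι] {G : Type v} [Group G]
  (p : Pts ι) (ν : Equiv.Perm ι →* G) (lam : Sp4 F →* G)

theorem spmi6_XrPair (H : Glue p ν lam) (hS : SpFacts F) {i j : ι} (hij : i ≠ j) : XrPair p ν lam i j :=
  fun _ _ h t => xr_pair p ν lam H hS hij h t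

/-- I6 -/
theorem wr_pair (H : Glue p ν lam) (hS : SpFacts F) {i j : ι} (hij : i ≠ j) {a' b' : Fin 2 ⊕ Fin 2} (hab' : a' ≠ b') (u : F) :
    lamP p ν lam i j ((matSys (Fin 2) F).w a' b' u) = wr p ν lam (pe2 i j a') (pe2 i j b') u :=
  spmi6_wr_core (spmi6_XrPair p ν lam H hS hij) hab' u

theorem hr_pair (H : Glue p ν lam) (hS : SpFacts F) {i j : ι} (hij : i ≠ j) {a' b' : Fin 2 ⊕ Fin 2} (hab' : a' ≠ b') (u : F) :
    lamP p ν lam i j ((matSys (Fin 2) F).h a' b' u) = hr p ν lam (pe2 i j a') (pe2 i j b') u :=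
  spmi6_hr_core (spmi6_XrPair p ν lam H hS hij) hab' u

/-- I7 -/
theorem pmon_pair (H : Glue p ν lam) (hS : SpFacts F) {i j : ι} (hij : i ≠ j) {g : Sp4 F} {π' : Equiv.Perm (Fin 2 ⊕ Fin 2)}
    {d' : Fin 2 ⊕ Fin 2 → F} (hg : (matSys (Fin 2) F).IsMon g π' d') {a' b' : Fin 2 ⊕ Fin 2} (hab' : a' ≠ b') (t : F) :
    lamP p ν lam i j g * xr p ν lam (pe2 i j a') (pe2 i j b') t * (lamP p ν lam i j g)⁻¹ =
      xr p ν lam (pe2 i j (π' a')) (pe2 i j (π' b')) (d' a' * (d' b')⁻¹ * t) :=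
  spmi7_core (spmi6_XrPair p ν lam H hS hij) hg hab' t

/-- T4 -/
theorem hl_pair [Finite F] (H : Glue p ν lam) (hS : SpFacts F) {k j : ι} (hkj : k ≠ j) {u : F} (hu : u ≠ 0) {a b : ι ⊕ ι} (hab : a ≠ b)
    (ha : ab a = k ∨ ab a = j) (hb : ab b = k ∨ ab b = j) (t : F) :
    hr p ν lam (Sum.inl k) (Sum.inr k) u * xr p ν lam a b t * (hr p ν lam (Sum.inl k) (Sum.inr k) u)⁻¹ =
      xr p ν lam a b (dhl (Sum.inl k) u a * (dhl (Sum.inl k) u b)⁻¹ * t) :=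
  spmt4_hl_core hkj (spmi6_XrPair p ν lam H hS hkj) hu hab ha hb t

theorem wl_pair [Finite F] (H : Glue p ν lam) (hS : SpFacts F) {k j : ι} (hkj : k ≠ j) {u : F} (hu : u ≠ 0) {a b : ι ⊕ ι} (hab : a ≠ b)
    (ha : ab a = k ∨ ab a = j) (hb : ab b = k ∨ ab b = j) (t : F) :
    wr p ν lam (Sum.inl k) (Sum.inr k) u * xr p ν lam a b t * (wr p ν lam (Sum.inl k) (Sum.inr k) u)⁻¹ =
      xr p ν lam (Equiv.swap (Sum.inl k) (Sum.inr k) a) (Equiv.swap (Sum.inl k) (Sum.inr k) b)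
        (dwl (Sum.inl k) u a * (dwl (Sum.inl k) u b)⁻¹ * t) :=
  spmt4_wl_core hkj (spmi6_XrPair p ν lam H hS hkj) hu hab ha hb t

end main

end Cfsg.Agent.Lib.helper3.SPM
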