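import Mathlib
import Cfsg.Agent.Lib.helper3.SPM.Defs
import Cfsg.Agent.Lib.helper3.SPM.Defs2
import Cfsg.Agent.Lib.helper3.SPM.DefsP
import Cfsg.Agent.Lib.helper23.SPMP01

/-!
# Project SPM (helper3), block P, rows P02 (`evG_Wc`), P11 (`wordsGlue_length`), P04 (`words_of_glue`)
-/

set_option autoImplicit false
set_option linter.unusedSectionVars false

namespace Cfsg.Agent.Lib.helper3.SPM

open Cfsg.Agent.Lib.helper3.STC Cfsg.Agent.Lib.helper3.STC.Mat Cfsg.Agent.Lib.helper17.SLP Cfsg.Agent.Lib.helper3.SP4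

universe u v w v'

section P

variable {F : Type u} [Field F] {ι : Type w} [Fintype ι] [DecidableEq ι] {k : ℕ}

/-- P2 -/
theorem evG_Wc {G : Type v} [Group G] (wN : Equiv.Perm ι → FreeGroup (Fin k)) (wL : Sp4 F → FreeGroup (Fin 6))
    (s : Fin k → G) (g : Fin 6 → G) (ν : Equiv.Perm ι →* G) (lam : Sp4 F →* G)
    (hν : ∀ σ, ν σ = evN s (wN σ)) (hlam : ∀ m, lam m = evL g (wL m)) (σ : Equiv.Perm ι) (m : Sp4 F) :
    evG s g (Wc wN wL σ m) = lamC ν lam σ m := by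
  unfold Wc
  rw [map_mul, map_mul, map_inv, evG_inN, evG_inL, ← hν, ← hlam]
  rfl

/-- P11 -/
theorem wordsGlue_length (p : Pts ι) (wN : Equiv.Perm ι → FreeGroup (Fin k)) (wL : Sp4 F → FreeGroup (Fin 6))
    (c d c' d' : Equiv.Perm ι) (b₁ b₂ b₃ : Sp4 F) :
    (wordsGlue p wN wL c d c' d' b₁ b₂ b₃).length = if p.o3 = none then 14 else 15 := by
  unfold wordsGlue
  rcases h : p.o3 with _ | x
  · simp
  · simp

theorem spmp04_cm_one {G : Type v} [Group G] (x y : G) (h : Commute x y) : cm x y = 1 :=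
  (cm_eq_one_iff x y).mpr h

theorem spmp04_cm_one' {G : Type v} [Group G] (x y : G) (h : x * y * x⁻¹ = y) : cm x y = 1 := by
  unfold cm
  rw [h, mul_inv_cancel]

/-- P4 -/
theorem words_of_glue (p : Pts ι) (wN : Equiv.Perm ι → FreeGroup (Fin k)) (wL : Sp4 F → FreeGroup (Fin 6))
    (c d c' d' : Equiv.Perm ι) (b₁ b₂ b₃ : Sp4 F)
    (hc : c p.o1 = p.o1) (hd : d p.o1 = p.o1) (hc' : c' p.o0 = p.o0 ∧ c' p.o1 = p.o1) (hd' : d' p.o0 = p.o0 ∧ d' p.o1 = p.o1)
    (hb₁ : b₁ ∈ B1 F) (hb₂ : b₂ ∈ B1 F) (hb₃ : b₃ ∈ B1 F)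
    {G : Type v} [Group G] (s : Fin k → G) (g : Fin 6 → G) (ν : Equiv.Perm ι →* G) (lam : Sp4 F →* G)
    (hν : ∀ σ, ν σ = evN s (wN σ)) (hlam : ∀ m, lam m = evL g (wL m)) (H : Glue p ν lam) :
    ∀ r ∈ wordsGlue p wN wL c d c' d' b₁ b₂ b₃, evG s g r = 1 := by
  have hW : ∀ σ m, evG s g (Wc wN wL σ m) = lamC ν lam σ m :=
    fun σ m => evG_Wc wN wL s g ν lam hν hlam σ m
  have hN : ∀ σ, evG s g (inN (wN σ)) = ν σ := fun σ => by rw [evG_inN, ← hν]
  have hL : ∀ m, evG s g (inL (wL m)) = lam m := fun m => by rw [evG_inL, ← hlam]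
  have hst : ∀ σ, σ p.o1 = p.o1 → ∀ b ∈ B1 F, evG s g (cm (inN (wN σ)) (inL (wL b))) = 1 := by
    intro σ hσ b hb
    rw [map_cm, hN, hL]
    exact spmp04_cm_one' _ _ (H.stab1 σ hσ b hb)
  have hst' : ∀ σ, σ p.o0 = p.o0 → σ p.o1 = p.o1 → evG s g (cm (inN (wN σ)) (inL (wL (uA F)))) = 1 := by
    intro σ h0 h1
    rw [map_cm, hN, hL]
    exact spmp04_cm_one' _ _ (H.stab01 σ h0 h1)
  have hd3 : ∀ b ∈ B1 F, evG s g (cm (inL (wL (uA F))) (Wc wN wL (Equiv.swap p.o1 p.o2) b)) = 1 := by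
    intro b hb
    rw [map_cm, hL, hW]
    exact spmp04_cm_one _ _ (H.d3 b hb)
  intro r hr
  unfold wordsGlue at hr
  simp only [List.mem_append] at hr
  rcases hr with ((((hr | hr) | hr) | hr) | hr) | hr
  · simp only [List.mem_cons, List.not_mem_nil, or_false] at hr
    subst hr
    rw [map_mul, map_inv, hN, hL, mul_inv_eq_one]
    exact H.sw
  · simp only [List.mem_cons, List.not_mem_nil, or_false] at hr
    rcases hr with rfl | rfl | rfl | rfl | rfl | rfl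
    · exact hst c hc b₁ hb₁
    · exact hst c hc b₂ hb₂
    · exact hst c hc b₃ hb₃
    · exact hst d hd b₁ hb₁
    · exact hst d hd b₂ hb₂
    · exact hst d hd b₃ hb₃
  · simp only [List.mem_cons, List.not_mem_nil, or_false] at hr
    rcases hr with rfl | rfl
    · exact hst' c' hc'.1 hc'.2
    · exact hst' d' hd'.1 hd'.2
  · simp only [List.mem_cons, List.not_mem_nil, or_false] at hr
    rcases hr with rfl | rfl | rfl
    · exact hd3 b₁ hb₁
    · exact hd3 b₂ hb₂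
    · exact hd3 b₃ hb₃
  · rcases h3 : p.o3 with _ | x
    · rw [h3] at hr
      simp at hr
    · rw [h3] at hr
      simp only [List.mem_cons, List.not_mem_nil, or_false] at hr
      subst hr
      rw [map_cm, hL, hW]
      exact spmp04_cm_one _ _ (H.d4 x (by rw [h3]; rfl))
  · simp only [List.mem_cons, List.not_mem_nil, or_false] at hr
    rcases hr with rfl | rfl
    · rw [map_mul, map_inv, map_cm, hL, hW, hW, mul_inv_eq_one]
      exact H.c1
    · rw [map_cm, hL, hW]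
      exact spmp04_cm_one _ _ H.c2

end P

end Cfsg.Agent.Lib.helper3.SPM
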