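import Mathlib
import Cfsg.Agent.Lib.helper3.SPM.Defs
import Cfsg.Agent.Lib.helper3.SPM.Defs2
import Cfsg.Agent.Lib.helper3.SPM.DefsP
import Cfsg.Agent.Lib.helper23.SPMP01
import Cfsg.Agent.Lib.Helper21.SPM.P02

/-!
# Project SPM (helper3), block P, row P03 (`glue_of_words`): the gluing relators imply `Glue`
-/

set_option autoImplicit false
set_option linter.unusedSectionVars false

namespace Cfsg.Agent.Lib.helper3.SPM

open Cfsg.Agent.Lib.helper3.STC Cfsg.Agent.Lib.helper3.STC.Mat Cfsg.Agent.Lib.helper17.SLP Cfsg.Agent.Lib.helper3.SP4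

universe u v w v'

/-- commuting with the images of a generating set implies commuting with the images of the closure -/
theorem spmp03_commute_closure {A : Type*} {G : Type*} [Group A] [Group G] (f : A →* G) (S : Set A) (y : G)
    (h : ∀ x ∈ S, Commute (f x) y) : ∀ x ∈ Subgroup.closure S, Commute (f x) y := by
  intro x hx
  induction hx using Subgroup.closure_induction with
  | mem x hx => exact h x hx
  | one => rw [map_one]; exact Commute.one_left y
  | mul x z _ _ hx hz => rw [map_mul]; exact hx.mul_left hz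
  | inv x _ hx => rw [map_inv]; exact hx.inv_left

theorem spmp03_commute_of_cm {G : Type*} [Group G] {x y : G} (h : cm x y = 1) : Commute x y :=
  (cm_eq_one_iff x y).mp h

theorem spmp03_conj_of_commute {G : Type*} [Group G] {x y : G} (h : Commute x y) : x * y * x⁻¹ = y :=
  mul_inv_eq_iff_eq_mul.mpr h.eq

section P

variable {F : Type u} [Field F] {ι : Type w} [Fintype ι] [DecidableEq ι] {k : ℕ}

/-- P3 -/
theorem glue_of_words (p : Pts ι) (wN : Equiv.Perm ι → FreeGroup (Fin k)) (wL : Sp4 F → FreeGroup (Fin 6))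
    (c d c' d' : Equiv.Perm ι) (b₁ b₂ b₃ : Sp4 F)
    (hcd : ∀ σ : Equiv.Perm ι, σ p.o1 = p.o1 → σ ∈ Subgroup.closure ({c, d} : Set (Equiv.Perm ι)))
    (hcd' : ∀ σ : Equiv.Perm ι, σ p.o0 = p.o0 → σ p.o1 = p.o1 → σ ∈ Subgroup.closure ({c', d'} : Set (Equiv.Perm ι)))
    (hB : (B1 F : Set (Sp4 F)) ⊆ Subgroup.closure ({b₁, b₂, b₃} : Set (Sp4 F)))
    {G : Type v} [Group G] (s : Fin k → G) (g : Fin 6 → G) (ν : Equiv.Perm ι →* G) (lam : Sp4 F →* G)
    (hν : ∀ σ, ν σ = evN s (wN σ)) (hlam : ∀ m, lam m = evL g (wL m))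
    (hrel : ∀ r ∈ wordsGlue p wN wL c d c' d' b₁ b₂ b₃, evG s g r = 1) : Glue p ν lam := by
  have hW : ∀ σ m, evG s g (Wc wN wL σ m) = lamC ν lam σ m :=
    fun σ m => evG_Wc wN wL s g ν lam hν hlam σ m
  have hN : ∀ σ, evG s g (inN (wN σ)) = ν σ := fun σ => by rw [evG_inN, ← hν]
  have hL : ∀ m, evG s g (inL (wL m)) = lam m := fun m => by rw [evG_inL, ← hlam]
  -- the words
  have r_sw := hrel (inN (wN (Equiv.swap p.o0 p.o1)) * (inL (wL swS))⁻¹) (by unfold wordsGlue; simp)
  have r_st : ∀ σ ∈ ({c, d} : Set (Equiv.Perm ι)), ∀ b ∈ ({b₁, b₂, b₃} : Set (Sp4 F)),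
      evG s g (cm (inN (wN σ)) (inL (wL b))) = 1 := by
    intro σ hσ b hb
    apply hrel
    unfold wordsGlue
    simp only [Set.mem_insert_iff, Set.mem_singleton_iff] at hσ hb
    rcases hσ with rfl | rfl <;> rcases hb with rfl | rfl | rfl <;> simp
  have r_st' : ∀ σ ∈ ({c', d'} : Set (Equiv.Perm ι)), evG s g (cm (inN (wN σ)) (inL (wL (uA F)))) = 1 := by
    intro σ hσ
    apply hrel
    unfold wordsGlue
    simp only [Set.mem_insert_iff, Set.mem_singleton_iff] at hσ
    rcases hσ with rfl | rfl <;> simp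
  have r_d3 : ∀ b ∈ ({b₁, b₂, b₃} : Set (Sp4 F)),
      evG s g (cm (inL (wL (uA F))) (Wc wN wL (Equiv.swap p.o1 p.o2) b)) = 1 := by
    intro b hb
    apply hrel
    unfold wordsGlue
    simp only [Set.mem_insert_iff, Set.mem_singleton_iff] at hb
    rcases hb with rfl | rfl | rfl <;> simp
  have r_c1 := hrel (cm (inL (wL (uA F))) (Wc wN wL (Equiv.swap p.o0 p.o1 * Equiv.swap p.o1 p.o2) (uA F)) *
      (Wc wN wL (Equiv.swap p.o1 p.o2) (uA F))⁻¹) (by unfold wordsGlue; simp)
  have r_c2 := hrel (cm (inL (wL (uA F))) (Wc wN wL (Equiv.swap p.o1 p.o2) (uA F))) (by unfold wordsGlue; simp)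
  refine ⟨?_, ?_, ?_, ?_, ?_, ?_, ?_⟩
  · -- sw
    rw [map_mul, map_inv, hN, hL, mul_inv_eq_one] at r_sw
    exact r_sw
  · -- stab1
    intro σ hσ m hm
    have h1 : ∀ τ ∈ ({c, d} : Set (Equiv.Perm ι)), Commute (ν τ) (lam m) := by
      intro τ hτ
      have h2 : ∀ b ∈ ({b₁, b₂, b₃} : Set (Sp4 F)), Commute (lam b) (ν τ) := by
        intro b hb
        have := r_st τ hτ b hb
        rw [map_cm, hN, hL] at this
        exact (spmp03_commute_of_cm this).symm
      exact (spmp03_commute_closure lam _ (ν τ) h2 m (hB hm)).symm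
    exact spmp03_conj_of_commute (spmp03_commute_closure ν _ (lam m) h1 σ (hcd σ hσ))
  · -- stab01
    intro σ h0 h1
    have h2 : ∀ τ ∈ ({c', d'} : Set (Equiv.Perm ι)), Commute (ν τ) (lam (uA F)) := by
      intro τ hτ
      have := r_st' τ hτ
      rw [map_cm, hN, hL] at this
      exact spmp03_commute_of_cm this
    exact spmp03_conj_of_commute (spmp03_commute_closure ν _ (lam (uA F)) h2 σ (hcd' σ h0 h1))
  · -- d3
    intro m hm
    have h2 : ∀ b ∈ ({b₁, b₂, b₃} : Set (Sp4 F)),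
        Commute (lamC ν lam (Equiv.swap p.o1 p.o2) b) (lam (uA F)) := by
      intro b hb
      have := r_d3 b hb
      rw [map_cm, hL, hW] at this
      exact (spmp03_commute_of_cm this).symm
    exact (spmp03_commute_closure (lamC ν lam (Equiv.swap p.o1 p.o2)) _ (lam (uA F)) h2 m (hB hm)).symm
  · -- d4
    intro x hx
    have := hrel (cm (inL (wL (uA F))) (Wc wN wL (Equiv.swap p.o0 p.o2 * Equiv.swap p.o1 x) (uA F))) (by
      unfold wordsGlue
      have h3 : p.o3 = some x := hx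
      rw [h3]
      simp)
    rw [map_cm, hL, hW] at this
    exact spmp03_commute_of_cm this
  · -- c1
    rw [map_mul, map_inv, map_cm, hL, hW, hW, mul_inv_eq_one] at r_c1
    exact r_c1
  · -- c2
    rw [map_cm, hL, hW] at r_c2
    exact spmp03_commute_of_cm r_c2

end P

end Cfsg.Agent.Lib.helper3.SPM
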