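import Mathlib
import Cfsg.Agent.Lib.helper3.SPM.Defs
import Cfsg.Agent.Lib.helper3.SPM.Defs2
import Cfsg.Agent.Lib.helper3.SPM.DefsP
import Cfsg.Agent.Lib.helper17.SLN.Defs
import Cfsg.Agent.Lib.helper6.SLPM4
import Cfsg.Agent.Lib.Helper21.SPM.M3

/-!
# Project SPM (helper3), block P, row P08 (`uA_eq`, `gM_mem_B1`, `B1_le`): the marked generators of `Sp₄(F)` against the Steinberg system
-/

set_option autoImplicit false
set_option linter.unusedSectionVars false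

namespace Cfsg.Agent.Lib.helper3.SPM

open Cfsg.Agent.Lib.helper3.STC Cfsg.Agent.Lib.helper3.STC.Mat Cfsg.Agent.Lib.helper17.SLP Cfsg.Agent.Lib.helper3.SP4

universe u v w v'

section P

variable {F : Type u} [Field F] {ι : Type w} [Fintype ι] [DecidableEq ι] {k : ℕ}

open Cfsg.Agent.Lib.helper17.SLN in
theorem spmp08_rhoA_xM (t : F) : rhoA (xM t) = (tm (Sum.inl 0) (Sum.inl 1) t : Sp4 F) := by
  apply Subtype.ext
  rw [rhoA_coe, tm_coe (by decide)]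
  ext (i | i) (j | j) <;> fin_cases i <;> fin_cases j <;>
    simp [rhoAm, Tm, xM, ng, sg]

open Cfsg.Agent.Lib.helper17.SLN in
theorem spmp08_rhoB_xM (t : F) : rhoB (xM t) = (tm (Sum.inl 1) (Sum.inr 1) t : Sp4 F) := by
  apply Subtype.ext
  rw [rhoB_coe, tm_coe (by decide)]
  ext (i | i) (j | j) <;> fin_cases i <;> fin_cases j <;>
    simp [rhoBm, Tm, xM, ng]

open Cfsg.Agent.Lib.helper17.SLN in
theorem spmp08_rhoB_yM (t : F) : rhoB (yM t) = (tm (Sum.inr 1) (Sum.inl 1) t : Sp4 F) := by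
  apply Subtype.ext
  rw [rhoB_coe, tm_coe (by decide)]
  ext (i | i) (j | j) <;> fin_cases i <;> fin_cases j <;>
    simp [rhoBm, Tm, yM, ng]

open Cfsg.Agent.Lib.helper17.SLN in
theorem spmp08_wM : (wM : Matrix.SpecialLinearGroup (Fin 2) F) = xM 1 * yM (-1) * xM 1 := by
  apply Subtype.ext
  show (wM : Matrix.SpecialLinearGroup (Fin 2) F).1 = (xM (1 : F)).1 * (yM (-1 : F)).1 * (xM (1 : F)).1
  ext i j
  fin_cases i <;> fin_cases j <;>
    simp [xM, yM, wM, Matrix.mul_apply, Fin.sum_univ_two]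

open Cfsg.Agent.Lib.helper17.SLN in
theorem spmp08_hM (s : Fˣ) : (hM s : Matrix.SpecialLinearGroup (Fin 2) F) =
    (xM (s : F) * yM (-((s⁻¹ : Fˣ) : F)) * xM (s : F)) * (xM (-1) * yM 1 * xM (-1)) := by
  apply Subtype.ext
  show (hM s : Matrix.SpecialLinearGroup (Fin 2) F).1 =
    ((xM (s : F)).1 * (yM (-((s⁻¹ : Fˣ) : F))).1 * (xM (s : F)).1) * ((xM (-1 : F)).1 * (yM (1 : F)).1 * (xM (-1 : F)).1)
  ext i j
  fin_cases i <;> fin_cases j <;>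
    simp [xM, yM, hM, Matrix.mul_apply, Fin.sum_univ_two]

theorem spmp08_rhoB_xM_mem (t : F) : rhoB (xM t) ∈ B1 F := by
  rw [spmp08_rhoB_xM]
  exact spmm_tm_mem_B1 (by decide) rfl rfl t

open Cfsg.Agent.Lib.helper17.SLN in
theorem spmp08_rhoB_yM_mem (t : F) : rhoB (yM t) ∈ B1 F := by
  rw [spmp08_rhoB_yM]
  exact spmm_tm_mem_B1 (by decide) rfl rfl t

/-- P8 -/
theorem uA_eq (ζ : Fˣ) : uA F = gM ζ 0 := by
  show uA F = rhoA (xM 1)
  rw [spmp08_rhoA_xM]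
  rfl

theorem gM_mem_B1 [Fintype F] (ζ : Fˣ) : gM (F := F) ζ 3 ∈ B1 F ∧ gM (F := F) ζ 4 ∈ B1 F ∧ gM (F := F) ζ 5 ∈ B1 F := by
  refine ⟨?_, ?_, ?_⟩
  · show rhoB (xM 1) ∈ B1 F
    exact spmp08_rhoB_xM_mem 1
  · show rhoB (hM ζ) ∈ B1 F
    rw [spmp08_hM]
    simp only [map_mul]
    exact (B1 F).mul_mem
      ((B1 F).mul_mem ((B1 F).mul_mem (spmp08_rhoB_xM_mem _) (spmp08_rhoB_yM_mem _)) (spmp08_rhoB_xM_mem _))
      ((B1 F).mul_mem ((B1 F).mul_mem (spmp08_rhoB_xM_mem _) (spmp08_rhoB_yM_mem _)) (spmp08_rhoB_xM_mem _))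
  · show rhoB wM ∈ B1 F
    rw [spmp08_wM]
    simp only [map_mul]
    exact (B1 F).mul_mem ((B1 F).mul_mem (spmp08_rhoB_xM_mem _) (spmp08_rhoB_yM_mem _)) (spmp08_rhoB_xM_mem _)

theorem B1_le [Fintype F] (ζ : Fˣ) (hζ : ∀ y : Fˣ, y ∈ Subgroup.zpowers ζ) :
    (B1 F : Set (Sp4 F)) ⊆ Subgroup.closure ({gM ζ 3, gM ζ 4, gM ζ 5} : Set (Sp4 F)) := by
  have himg : ({gM ζ 3, gM ζ 4, gM ζ 5} : Set (Sp4 F)) =
      (rhoB : Matrix.SpecialLinearGroup (Fin 2) F →* Sp4 F) '' {xM (1 : F), hM ζ, wM} := by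
    rw [Set.image_insert_eq, Set.image_insert_eq, Set.image_singleton]
    rfl
  rw [himg, ← MonoidHom.map_closure, Cfsg.Agent.Lib.helper17.SLP.closure_M ζ hζ]
  have hle : B1 F ≤ Subgroup.map (rhoB : Matrix.SpecialLinearGroup (Fin 2) F →* Sp4 F) ⊤ := by
    unfold B1 SysC.XQ
    rw [Subgroup.closure_le]
    rintro _ ⟨a, b, t, hab, ⟨ha, hb⟩, rfl⟩
    show (tm a b t : Sp4 F) ∈ Subgroup.map (rhoB : Matrix.SpecialLinearGroup (Fin 2) F →* Sp4 F) ⊤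
    rcases spmm_ab_one ha with rfl | rfl <;> rcases spmm_ab_one hb with rfl | rfl
    · exact absurd rfl hab
    · rw [← spmp08_rhoB_xM]
      exact Subgroup.mem_map_of_mem _ (Subgroup.mem_top _)
    · rw [← spmp08_rhoB_yM]
      exact Subgroup.mem_map_of_mem _ (Subgroup.mem_top _)
    · exact absurd rfl hab
  exact hle

end P

end Cfsg.Agent.Lib.helper3.SPM
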